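import Mathlib

/-!
# The `S`-span of `1 ⊗ N` in `S ⊗ M`
-/

open TensorProduct

universe u

namespace Groth.Agent.Lib27.ML.Descent

variable {R S : Type u} [CommRing R] [CommRing S] [Algebra R S]
variable {M : Type u} [AddCommGroup M] [Module R M]

/-- The `S`-span of `1 ⊗ N` inside `S ⊗ M`. -/
def E (N : Submodule R M) : Submodule S (S ⊗[R] M) :=
  Submodule.span S ((TensorProduct.mk R S M 1) '' (N : Set M))

lemma one_tmul_mem_E {N : Submodule R M} {n : M} (hn : n ∈ N) :
    (1 : S) ⊗ₜ[R] n ∈ E (S := S) N :=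
  Submodule.subset_span ⟨n, hn, rfl⟩

lemma E_mono {N N' : Submodule R M} (h : N ≤ N') : E (S := S) N ≤ E N' :=
  Submodule.span_mono (Set.image_mono h)

lemma E_iSup {ι : Sort*} (N : ι → Submodule R M) : E (S := S) (⨆ a, N a) = ⨆ a, E (N a) := by
  apply le_antisymm
  · unfold E
    rw [Submodule.span_le]
    rintro _ ⟨n, hn, rfl⟩
    change (1 : S) ⊗ₜ[R] n ∈ ⨆ a, E (S := S) (N a)
    induction hn using Submodule.iSup_induction' with
    | mem a x hx => exact Submodule.mem_iSup_of_mem a (one_tmul_mem_E hx)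
    | zero => rw [tmul_zero]; exact zero_mem _
    | add x y _ _ hx hy => rw [tmul_add]; exact add_mem hx hy
  · exact iSup_le fun a => E_mono (le_iSup N a)

lemma E_sup (N N' : Submodule R M) : E (S := S) (N ⊔ N') = E N ⊔ E N' := by
  rw [sup_eq_iSup, E_iSup, sup_eq_iSup]
  congr 1
  funext b
  cases b <;> rfl

lemma E_bot : E (S := S) (⊥ : Submodule R M) = ⊥ := by
  unfold E
  rw [eq_bot_iff, Submodule.span_le]
  rintro _ ⟨n, hn, rfl⟩
  rw [SetLike.mem_coe, Submodule.mem_bot] at hn
  subst hn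
  simp

lemma E_eq_range (N : Submodule R M) :
    E (S := S) N = LinearMap.range (N.subtype.baseChange S) := by
  apply le_antisymm
  · unfold E
    rw [Submodule.span_le]
    rintro _ ⟨n, hn, rfl⟩
    exact ⟨(1 : S) ⊗ₜ[R] (⟨n, hn⟩ : N), by simp⟩
  · rintro _ ⟨x, rfl⟩
    induction x using TensorProduct.induction_on with
    | zero => simp
    | tmul s n =>
      have : (N.subtype.baseChange S) (s ⊗ₜ[R] n) = s • ((1 : S) ⊗ₜ[R] (n : M)) := by
        simp [TensorProduct.smul_tmul']
      rw [this]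
      exact Submodule.smul_mem _ _ (one_tmul_mem_E n.2)
    | add x y hx hy => rw [map_add]; exact add_mem hx hy

lemma ker_baseChange_mkQ (N : Submodule R M) :
    LinearMap.ker (N.mkQ.baseChange S) = E (S := S) N := by
  rw [E_eq_range]
  ext x
  have hex : Function.Exact (N.subtype.lTensor S) (N.mkQ.lTensor S) :=
    lTensor_exact S (LinearMap.exact_subtype_mkQ N) N.mkQ_surjective
  rw [LinearMap.mem_ker, LinearMap.mem_range]
  have h1 : (N.mkQ.baseChange S) x = (N.mkQ.lTensor S) x := rfl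
  rw [h1, hex x]
  rfl

lemma map_baseChange_E {M' : Type u} [AddCommGroup M'] [Module R M'] (g : M →ₗ[R] M')
    (N : Submodule R M) :
    Submodule.map (g.baseChange S) (E (S := S) N) = E (N.map g) := by
  unfold E
  rw [Submodule.map_span]
  congr 1
  ext x
  constructor
  · rintro ⟨_, ⟨n, hn, rfl⟩, rfl⟩
    exact ⟨g n, ⟨n, hn, rfl⟩, by simp⟩
  · rintro ⟨_, ⟨n, hn, rfl⟩, rfl⟩
    exact ⟨_, ⟨n, hn, rfl⟩, by simp⟩

lemma baseChange_surjective {M' : Type u} [AddCommGroup M'] [Module R M'] (g : M →ₗ[R] M')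
    (hg : Function.Surjective g) : Function.Surjective (g.baseChange S) := by
  have : Function.Surjective (g.lTensor S) := LinearMap.lTensor_surjective S hg
  exact this

end Groth.Agent.Lib27.ML.Descent
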