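import Mathlib
import Groth.Agent.Lib.Helper21.MittagLeffler9

/-!
# Countably generated Mittag-Leffler modules: lifting along an exhausting chain
-/

open TensorProduct

universe u

namespace Groth.Agent.Lib27.ML

open Groth.Agent.Lib.Helper21.ML

variable {R : Type u} [CommRing R]

/-- cokernel of a map from a finite module to a f.p. module is f.p. -/
lemma fp_coker {A B : Type u} [AddCommGroup A] [Module R A] [AddCommGroup B] [Module R B]
    [Module.Finite R A] [Module.FinitePresentation R B] (g : A →ₗ[R] B) :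
    Module.FinitePresentation R (B ⧸ LinearMap.range g) := by
  refine Module.finitePresentation_of_surjective (LinearMap.range g).mkQ
    (LinearMap.range g).mkQ_surjective ?_
  rw [Submodule.ker_mkQ, LinearMap.range_eq_map]
  exact (Module.Finite.fg_top).map g

/-- Domination data for a map from a finitely presented module into a Mittag-Leffler module. -/
lemma exists_dom (M : Type u) [AddCommGroup M] [Module R M] (hM : CAlg.IsMittagLeffler R M)
    (P : Type u) [AddCommGroup P] [Module R P] [Module.FinitePresentation R P] (f : P →ₗ[R] M) :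
    ∃ (Q : Type u) (_ : AddCommGroup Q) (_ : Module R Q) (_ : Module.FinitePresentation R Q)
      (g : P →ₗ[R] Q) (c : Q →ₗ[R] M), c ∘ₗ g = f ∧
      ∀ (N : Type u) [AddCommGroup N] [Module R N],
        LinearMap.ker (f.rTensor N) = LinearMap.ker (g.rTensor N) := by
  obtain ⟨Q, iA, iM, iF, g, hg⟩ := exists_dominating M hM P f
  haveI := fp_coker g
  obtain ⟨c, hc⟩ := (dominates_iff_factors g f).1 (fun N _ _ => (hg N).ge)
  exact ⟨Q, iA, iM, iF, g, c, hc.symm, hg⟩

/-- Main lifting lemma. -/
theorem exists_retraction_of_chain (M : Type u) [AddCommGroup M] [Module R M]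
    (hM : CAlg.IsMittagLeffler R M) (F : Type u) [AddCommGroup F] [Module R F]
    (Φ : F →ₗ[R] M) (hΦ : Function.Surjective Φ) (G : ℕ → Submodule R F)
    (hmono : ∀ n, G n ≤ G (n + 1)) (hcover : ∀ x, ∃ n, x ∈ G n)
    (hfp : ∀ n, Module.FinitePresentation R (G n)) :
    ∃ (Q : Type u) (_ : AddCommGroup Q) (_ : Module R Q) (_ : Module.FinitePresentation R Q)
      (b : M →ₗ[R] Q) (c : Q →ₗ[R] M), ∀ x ∈ G 0, c (b (Φ x)) = Φ x := by
  classical
  have Gmono : ∀ {k m : ℕ}, k ≤ m → G k ≤ G m := fun h => monotone_nat_of_le_succ hmono h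
  have key := fun n => exists_dom M hM (G n) (Φ ∘ₗ (G n).subtype)
  choose Q iA iM iF g c hc hker using key
  -- transition maps
  have htr : ∀ n, ∃ h : Q (n + 1) →ₗ[R] Q n,
      g n = h ∘ₗ (g (n + 1) ∘ₗ Submodule.inclusion (hmono n)) := by
    intro n
    haveI := fp_coker (g (n + 1) ∘ₗ Submodule.inclusion (hmono n))
    refine (dominates_iff_factors (g (n + 1) ∘ₗ Submodule.inclusion (hmono n)) (g n)).1 ?_
    intro N _ _ y hy
    rw [← hker n N]
    rw [LinearMap.mem_ker] at hy ⊢
    rw [LinearMap.rTensor_comp, LinearMap.comp_apply] at hy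
    have h1 : (Submodule.inclusion (hmono n)).rTensor N y ∈
        LinearMap.ker ((Φ ∘ₗ (G (n + 1)).subtype).rTensor N) := by
      rw [hker (n + 1) N, LinearMap.mem_ker, hy]
    rw [LinearMap.mem_ker, ← LinearMap.comp_apply, ← LinearMap.rTensor_comp] at h1
    exact h1
  choose h' hh' using htr
  let H : (k : ℕ) → Q k →ₗ[R] Q 0 := fun k =>
    Nat.rec (motive := fun k => Q k →ₗ[R] Q 0) LinearMap.id (fun k Hk => Hk ∘ₗ h' k) k
  have H0 : H 0 = LinearMap.id := rfl
  have Hs : ∀ k, H (k + 1) = H k ∘ₗ h' k := fun k => rfl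
  let bb : (k : ℕ) → G k →ₗ[R] Q 0 := fun k => H k ∘ₗ g k
  have compat1 : ∀ k, bb (k + 1) ∘ₗ Submodule.inclusion (hmono k) = bb k := by
    intro k
    simp only [bb]
    rw [Hs, LinearMap.comp_assoc, LinearMap.comp_assoc]
    conv_rhs => rw [hh' k]
  have compat : ∀ k m (h : k ≤ m) x (hx : x ∈ G k),
      bb m ⟨x, Gmono h hx⟩ = bb k ⟨x, hx⟩ := by
    intro k m h
    induction m, h using Nat.le_induction with
    | base => intro x hx; rfl
    | succ m hkm ih =>
      intro x hx
      rw [← ih x hx, ← compat1 m]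
      rfl
  have kill : ∀ k x (hx : x ∈ G k), Φ x = 0 → bb k ⟨x, hx⟩ = 0 := by
    intro k x hx h0
    have hle := ker_le_ker_of_dominates (Φ ∘ₗ (G k).subtype) (g k) (fun N _ _ => (hker k N).le)
    have : (⟨x, hx⟩ : G k) ∈ LinearMap.ker (g k) := hle (by simpa using h0)
    simp only [bb, LinearMap.comp_apply]
    rw [LinearMap.mem_ker.1 this, map_zero]
  choose kx hkx using hcover
  have hB : ∀ x m (hx : x ∈ G m), bb (kx x) ⟨x, hkx x⟩ = bb m ⟨x, hx⟩ := by
    intro x m hx
    rcases le_total (kx x) m with h | h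
    · exact (compat _ _ h x (hkx x)).symm
    · exact compat _ _ h x hx
  let B : F →ₗ[R] Q 0 :=
    { toFun := fun x => bb (kx x) ⟨x, hkx x⟩
      map_add' := by
        intro x y
        set m := max (kx x) (max (kx y) (kx (x + y))) with hm
        have hx : x ∈ G m := Gmono (le_max_left _ _) (hkx x)
        have hy : y ∈ G m := Gmono ((le_max_left _ _).trans (le_max_right _ _)) (hkx y)
        have hxy : x + y ∈ G m := (G m).add_mem hx hy
        rw [hB x m hx, hB y m hy, hB (x + y) m hxy, ← map_add]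
        rfl
      map_smul' := by
        intro r x
        have hx : r • x ∈ G (kx x) := (G _).smul_mem r (hkx x)
        rw [hB (r • x) (kx x) hx, RingHom.id_apply, ← map_smul]
        rfl }
  have hBx : ∀ x m (hx : x ∈ G m), B x = bb m ⟨x, hx⟩ := hB
  have hBker : LinearMap.ker Φ ≤ LinearMap.ker B := by
    intro x hx
    rw [LinearMap.mem_ker] at hx ⊢
    rw [hBx x _ (hkx x)]
    exact kill _ _ _ hx
  obtain ⟨b, hb⟩ := exists_lift_of_surjective Φ hΦ B hBker
  refine ⟨Q 0, iA 0, iM 0, iF 0, b, c 0, ?_⟩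
  intro x hx
  have h1 : b (Φ x) = B x := by rw [← hb]; rfl
  rw [h1, hBx x 0 hx]
  simp only [bb, H0, LinearMap.id_comp]
  have := LinearMap.congr_fun (hc 0) ⟨x, hx⟩
  simpa using this

end Groth.Agent.Lib27.ML
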