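import Mathlib
import Groth.Agent.Lib27.ML.Countable

/-!
# Countably generated flat Mittag-Leffler modules are projective
-/

open TensorProduct

universe u

namespace Groth.Agent.Lib27.ML

open Groth.Agent.Lib.Helper21.ML

variable {R : Type u} [CommRing R]

/-- Gluing compatible linear maps along an exhausting increasing chain of submodules. -/
theorem exists_glue {F X : Type*} [AddCommGroup F] [Module R F] [AddCommGroup X] [Module R X]
    (G : ℕ → Submodule R F) (hmono : ∀ n, G n ≤ G (n + 1)) (hcover : ∀ x, ∃ n, x ∈ G n)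
    (bb : (k : ℕ) → G k →ₗ[R] X)
    (compat1 : ∀ k (x : F) (hx : x ∈ G k), bb (k + 1) ⟨x, hmono k hx⟩ = bb k ⟨x, hx⟩) :
    ∃ B : F →ₗ[R] X, ∀ k (x : F) (hx : x ∈ G k), B x = bb k ⟨x, hx⟩ := by
  classical
  have Gmono : ∀ {k m : ℕ}, k ≤ m → G k ≤ G m := fun h => monotone_nat_of_le_succ hmono h
  have compat : ∀ k m (h : k ≤ m) x (hx : x ∈ G k),
      bb m ⟨x, Gmono h hx⟩ = bb k ⟨x, hx⟩ := by
    intro k m h
    induction m, h using Nat.le_induction with
    | base => intro x hx; rfl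
    | succ m hkm ih =>
      intro x hx
      rw [← ih x hx]
      exact compat1 m x (Gmono hkm hx)
  choose kx hkx using hcover
  have hB : ∀ x m (hx : x ∈ G m), bb (kx x) ⟨x, hkx x⟩ = bb m ⟨x, hx⟩ := by
    intro x m hx
    rcases le_total (kx x) m with h | h
    · exact (compat _ _ h x (hkx x)).symm
    · exact compat _ _ h x hx
  refine ⟨{ toFun := fun x => bb (kx x) ⟨x, hkx x⟩
            map_add' := ?_
            map_smul' := ?_ }, fun k x hx => hB x k hx⟩
  · intro x y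
    set m := max (kx x) (max (kx y) (kx (x + y))) with hm
    have hx : x ∈ G m := Gmono (le_max_left _ _) (hkx x)
    have hy : y ∈ G m := Gmono ((le_max_left _ _).trans (le_max_right _ _)) (hkx y)
    have hxy : x + y ∈ G m := (G m).add_mem hx hy
    rw [hB x m hx, hB y m hy, hB (x + y) m hxy, ← map_add]
    rfl
  · intro r x
    have hx : r • x ∈ G (kx x) := (G _).smul_mem r (hkx x)
    rw [hB (r • x) (kx x) hx, RingHom.id_apply, ← map_smul]
    rfl

/-- Projectivity from a Mittag-Leffler tower of projective modules. -/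
theorem projective_of_tower (M : Type u) [AddCommGroup M] [Module R M]
    (L : ℕ → Type u) [∀ n, AddCommGroup (L n)] [∀ n, Module R (L n)]
    [∀ n, Module.Projective R (L n)]
    (u : ∀ n, L n →ₗ[R] L (n + 1)) (ψ : ∀ n, L n →ₗ[R] M)
    (hψ : ∀ n, ψ (n + 1) ∘ₗ u n = ψ n)
    (hcover : ∀ m : M, ∃ n, m ∈ LinearMap.range (ψ n))
    (hker : ∀ n, LinearMap.ker (ψ n) ≤ LinearMap.ker (u n))
    (hh : ∀ n, ∃ h : L (n + 2) →ₗ[R] L (n + 1), h ∘ₗ (u (n + 1) ∘ₗ u n) = u n) :
    Module.Projective R M := by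
  classical
  apply Module.Projective.of_lifting_property
  intro A B _ _ _ _ π g hπ
  choose h hh using hh
  -- individual lifts
  have hlift : ∀ n, ∃ a : L n →ₗ[R] A, π ∘ₗ a = g ∘ₗ ψ n :=
    fun n => Module.projective_lifting_property π (g ∘ₗ ψ n) hπ
  choose a ha using hlift
  let δ : ∀ n, L n →ₗ[R] A := fun n => a (n + 1) ∘ₗ u n - a n
  have hδ : ∀ n, π ∘ₗ δ n = 0 := by
    intro n
    simp only [δ]
    rw [LinearMap.comp_sub, ← LinearMap.comp_assoc, ha (n + 1), ha n, LinearMap.comp_assoc, hψ n,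
      sub_self]
  let x : ∀ n, L (n + 1) →ₗ[R] A := fun n =>
    Nat.rec (motive := fun n => L (n + 1) →ₗ[R] A) 0
      (fun n xn => (xn - δ (n + 1)) ∘ₗ h n) n
  have x0 : x 0 = 0 := rfl
  have xs : ∀ n, x (n + 1) = (x n - δ (n + 1)) ∘ₗ h n := fun n => rfl
  have hx : ∀ n, π ∘ₗ x n = 0 := by
    intro n
    induction n with
    | zero => rw [x0, LinearMap.comp_zero]
    | succ n ih =>
      rw [xs, ← LinearMap.comp_assoc, LinearMap.comp_sub, ih, hδ, sub_zero, LinearMap.zero_comp]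
  let at' : ∀ n, L n →ₗ[R] A := fun n => a n + δ n + x n ∘ₗ u n
  have hat : ∀ n, π ∘ₗ at' n = g ∘ₗ ψ n := by
    intro n
    simp only [at']
    rw [LinearMap.comp_add, LinearMap.comp_add, ha, hδ, ← LinearMap.comp_assoc, hx,
      LinearMap.zero_comp, add_zero, add_zero]
  have hcompat : ∀ n, at' (n + 1) ∘ₗ u n = at' n := by
    intro n
    ext y
    have e1 : h n (u (n + 1) (u n y)) = u n y := LinearMap.congr_fun (hh n) y
    simp only [at', LinearMap.comp_apply, LinearMap.add_apply, xs, LinearMap.sub_apply, e1, δ]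
    abel
  have hatker : ∀ n, LinearMap.ker (ψ n) ≤ LinearMap.ker (at' n) := by
    intro n y hy
    have h1 : u n y = 0 := hker n hy
    rw [LinearMap.mem_ker, ← hcompat n, LinearMap.comp_apply, h1, map_zero]
  -- descend to the images
  have hdesc : ∀ n, ∃ gn : LinearMap.range (ψ n) →ₗ[R] A, gn ∘ₗ (ψ n).rangeRestrict = at' n := by
    intro n
    apply exists_lift_of_surjective (ψ n).rangeRestrict (LinearMap.surjective_rangeRestrict _)
    rw [LinearMap.ker_rangeRestrict]
    exact hatker n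
  choose gn hgn using hdesc
  have hgn' : ∀ n (y : L n), gn n ⟨ψ n y, ⟨y, rfl⟩⟩ = at' n y := by
    intro n y
    rw [← hgn n]
    rfl
  have hmono : ∀ n, LinearMap.range (ψ n) ≤ LinearMap.range (ψ (n + 1)) := by
    intro n
    rw [← hψ n]
    exact LinearMap.range_comp_le_range _ _
  obtain ⟨gt, hgt⟩ := exists_glue (fun n => LinearMap.range (ψ n)) hmono hcover gn (by
    intro k m hm
    obtain ⟨y, rfl⟩ := hm
    have h1 : (⟨ψ k y, hmono k ⟨y, rfl⟩⟩ : LinearMap.range (ψ (k + 1))) =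
        ⟨ψ (k + 1) (u k y), ⟨u k y, rfl⟩⟩ := by
      apply Subtype.ext
      change ψ k y = ψ (k + 1) (u k y)
      rw [← hψ k]
      rfl
    rw [h1, hgn', hgn', ← hcompat k]
    rfl)
  refine ⟨gt, ?_⟩
  ext m
  obtain ⟨n, y, rfl⟩ := hcover m
  rw [LinearMap.comp_apply, hgt n (ψ n y) ⟨y, rfl⟩, hgn']
  have := LinearMap.congr_fun (hat n) y
  simpa using this

/-- One step of the construction of the tower. -/
lemma exists_step (M : Type u) [AddCommGroup M] [Module R M] (hM : CAlg.IsMittagLeffler R M)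
    [Module.Flat R M] (k : ℕ) (ψ : (Fin k →₀ R) →ₗ[R] M) (z : M) :
    ∃ (k' : ℕ) (ψ' : (Fin k' →₀ R) →ₗ[R] M) (u : (Fin k →₀ R) →ₗ[R] (Fin k' →₀ R)),
      ψ' ∘ₗ u = ψ ∧ z ∈ LinearMap.range ψ' ∧
      ∀ (N : Type u) [AddCommGroup N] [Module R N],
        LinearMap.ker (ψ.rTensor N) ≤ LinearMap.ker (u.rTensor N) := by
  let ψ₁ : ((Fin k →₀ R) × R) →ₗ[R] M := ψ.coprod (LinearMap.toSpanSingleton R M z)
  obtain ⟨Q, _, _, _, γ, c, hc, hker⟩ := exists_dom M hM ((Fin k →₀ R) × R) ψ₁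
  obtain ⟨k', a, c', hac⟩ := Module.Flat.exists_factorization_of_finitePresentation c
  refine ⟨k', c', a ∘ₗ γ ∘ₗ LinearMap.inl R _ _, ?_, ?_, ?_⟩
  · rw [← LinearMap.comp_assoc, ← LinearMap.comp_assoc, ← hac, hc]
    simp [ψ₁]
  · refine ⟨a (γ (0, 1)), ?_⟩
    have h1 : c' (a (γ (0, 1))) = c (γ (0, 1)) := by rw [hac]; rfl
    have h2 : c (γ (0, 1)) = ψ₁ (0, 1) := by rw [← hc]; rfl
    rw [h1, h2]
    simp [ψ₁]
  · intro N _ _ y hy
    rw [LinearMap.mem_ker] at hy ⊢
    have h1 : (LinearMap.inl R (Fin k →₀ R) R).rTensor N y ∈ LinearMap.ker (ψ₁.rTensor N) := by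
      rw [LinearMap.mem_ker, ← LinearMap.comp_apply, ← LinearMap.rTensor_comp]
      have : ψ₁ ∘ₗ LinearMap.inl R (Fin k →₀ R) R = ψ := by simp [ψ₁]
      rw [this, hy]
    rw [hker N, LinearMap.mem_ker] at h1
    rw [LinearMap.rTensor_comp, LinearMap.rTensor_comp, LinearMap.comp_apply, LinearMap.comp_apply,
      h1, map_zero]

/-- **Raynaud–Gruson**: a countably generated flat Mittag-Leffler module is projective. -/
theorem projective_of_flat_of_mittagLeffler_of_countablyGenerated (M : Type u) [AddCommGroup M]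
    [Module R M] [Module.Flat R M] (hM : CAlg.IsMittagLeffler R M)
    (hc : CAlg.IsCountablyGenerated R M) : Module.Projective R M := by
  classical
  obtain ⟨s, hs, hspan⟩ := hc
  obtain ⟨z, hz⟩ := (hs.insert (0 : M)).exists_eq_range (Set.insert_nonempty _ _)
  choose nk nψ nu h1 h2 h3 using exists_step M hM
  let S : ℕ → Σ k : ℕ, ((Fin k →₀ R) →ₗ[R] M) := fun n =>
    Nat.rec ⟨0, 0⟩ (fun n s => ⟨nk s.1 s.2 (z n), nψ s.1 s.2 (z n)⟩) n
  let L : ℕ → Type u := fun n => Fin (S n).1 →₀ R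
  let ψ : ∀ n, L n →ₗ[R] M := fun n => (S n).2
  let u : ∀ n, L n →ₗ[R] L (n + 1) := fun n => nu (S n).1 (S n).2 (z n)
  have hψ : ∀ n, ψ (n + 1) ∘ₗ u n = ψ n := fun n => h1 (S n).1 (S n).2 (z n)
  have hzr : ∀ n, z n ∈ LinearMap.range (ψ (n + 1)) := fun n => h2 (S n).1 (S n).2 (z n)
  have hdom : ∀ n (N : Type u) [AddCommGroup N] [Module R N],
      LinearMap.ker ((ψ n).rTensor N) ≤ LinearMap.ker ((u n).rTensor N) :=
    fun n N _ _ => h3 (S n).1 (S n).2 (z n) N
  have hmono : ∀ n, LinearMap.range (ψ n) ≤ LinearMap.range (ψ (n + 1)) := by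
    intro n
    rw [← hψ n]
    exact LinearMap.range_comp_le_range _ _
  refine projective_of_tower M L u ψ hψ ?_ ?_ ?_
  · -- covering
    have hdir : Directed (· ≤ ·) fun n => LinearMap.range (ψ n) :=
      (monotone_nat_of_le_succ hmono).directed_le
    have htop : (⨆ n, LinearMap.range (ψ n)) = ⊤ := by
      rw [eq_top_iff, ← hspan, Submodule.span_le]
      intro x hx
      have : x ∈ Set.range z := hz ▸ Set.mem_insert_of_mem _ hx
      obtain ⟨n, rfl⟩ := this
      exact Submodule.mem_iSup_of_mem (n + 1) (hzr n)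
    intro m
    have hm : m ∈ ⨆ n, LinearMap.range (ψ n) := by rw [htop]; trivial
    exact (Submodule.mem_iSup_of_directed _ hdir).1 hm
  · intro n
    exact ker_le_ker_of_dominates (ψ n) (u n) (fun N _ _ => hdom n N)
  · intro n
    haveI : Module.FinitePresentation R (L (n + 2)) := by
      change Module.FinitePresentation R (Fin _ →₀ R)
      infer_instance
    haveI : Module.Finite R (L n) := by
      change Module.Finite R (Fin _ →₀ R)
      infer_instance
    haveI := fp_coker (u (n + 1) ∘ₗ u n)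
    obtain ⟨h, hh⟩ := (dominates_iff_factors (u (n + 1) ∘ₗ u n) (u n)).1 (by
      intro N _ _ y hy
      apply hdom n N
      rw [LinearMap.mem_ker] at hy ⊢
      have h4 : ψ n = ψ (n + 2) ∘ₗ (u (n + 1) ∘ₗ u n) := by
        rw [← LinearMap.comp_assoc, hψ (n + 1), hψ n]
      rw [h4, LinearMap.rTensor_comp, LinearMap.comp_apply, hy, map_zero])
    exact ⟨h, hh.symm⟩

end Groth.Agent.Lib27.ML
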