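import Mathlib
import Groth.Agent.Lib27.ML.Descent1
import Groth.Agent.Lib27.ML.Projective
import Groth.Agent.Lib.Helper12.Kaplansky
import Groth.Agent.S0584
import Groth.Agent.S0586
import Groth.Agent.S6383

/-!
# Extension step for the descent of projectivity
-/

open TensorProduct
open scoped Classical

universe u

namespace Groth.Agent.Lib27.ML.Descent

variable {R S : Type u} [CommRing R] [CommRing S] [Algebra R S]
variable {M : Type u} [AddCommGroup M] [Module R M]

/-- Partial sums of an internal direct sum decomposition of a projective module are projective. -/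
lemma projective_biSup {T : Type u} [AddCommGroup T] [Module S T] [Module.Projective S T]
    {I : Type u} (Q : I → Submodule S T) (hQ : DirectSum.IsInternal Q) (I'' : Set I) :
    Module.Projective S ↥(⨆ i ∈ I'', Q i) := by
  have hind := hQ.submodule_iSupIndep
  have hcompl : IsCompl (⨆ i ∈ I'', Q i) (⨆ i ∈ I''ᶜ, Q i) := by
    constructor
    · exact hind.disjoint_biSup_biSup disjoint_compl_right
    · rw [codisjoint_iff, ← iSup_union, Set.union_compl_self]
      simp only [Set.mem_univ, iSup_pos]
      exact hQ.submodule_iSup_eq_top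
  let r := Submodule.projectionOnto _ _ hcompl
  apply Module.Projective.of_split (⨆ i ∈ I'', Q i).subtype r
  ext x
  simp only [r, LinearMap.comp_apply, Submodule.subtype_apply, LinearMap.id_apply]
  rw [Submodule.projectionOnto_apply_left]

lemma isInternal_map_of_ker {T T' : Type u} [AddCommGroup T] [Module S T] [AddCommGroup T']
    [Module S T'] {I : Type u} (Q : I → Submodule S T) (hQ : DirectSum.IsInternal Q)
    (p : T →ₗ[S] T') (hp : Function.Surjective p) (I' : Set I)
    (hker : LinearMap.ker p = ⨆ i ∈ I', Q i) :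
    DirectSum.IsInternal (fun i : {i // i ∉ I'} => (Q i.1).map p) := by
  have hind := hQ.submodule_iSupIndep
  apply DirectSum.isInternal_submodule_of_iSupIndep_of_iSup_eq_top
  · intro i
    rw [Submodule.disjoint_def]
    intro x hx1 hx2
    obtain ⟨q, hq, rfl⟩ := hx1
    have h1 : (⨆ (j : {i // i ∉ I'}) (_ : j ≠ i), (Q j.1).map p) =
        Submodule.map p (⨆ (j : {i // i ∉ I'}) (_ : j ≠ i), Q j.1) := by
      simp only [Submodule.map_iSup]
    rw [h1] at hx2
    obtain ⟨y, hy, hyq⟩ := hx2
    have h2 : q - y ∈ LinearMap.ker p := by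
      rw [LinearMap.mem_ker, map_sub, hyq, sub_self]
    rw [hker] at h2
    have h3 : q ∈ ⨆ (j : I) (_ : j ≠ i.1), Q j := by
      have h4 : q = (q - y) + y := by abel
      rw [h4]
      apply add_mem
      · have hle : (⨆ j ∈ I', Q j) ≤ ⨆ (j : I) (_ : j ≠ i.1), Q j := by
          refine iSup₂_le fun j hj => ?_
          refine le_iSup₂_of_le j ?_ le_rfl
          rintro rfl
          exact i.2 hj
        exact hle h2
      · have hle : (⨆ (j : {i // i ∉ I'}) (_ : j ≠ i), Q j.1) ≤ ⨆ (j : I) (_ : j ≠ i.1), Q j := by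
          refine iSup₂_le fun j hj => ?_
          refine le_iSup₂_of_le j.1 ?_ le_rfl
          intro h
          exact hj (Subtype.ext h)
        exact hle hy
    have h5 : q = 0 := by
      have := (hind i.1)
      rw [Submodule.disjoint_def] at this
      exact this q hq h3
    rw [h5, map_zero]
  · have h1 : (⨆ i : {i // i ∉ I'}, (Q i.1).map p) =
        Submodule.map p (⨆ i : {i // i ∉ I'}, Q i.1) := by
      rw [Submodule.map_iSup]
    rw [h1, eq_top_iff]
    intro x _
    obtain ⟨t, rfl⟩ := hp x
    have ht : t ∈ (⨆ i ∈ I', Q i) ⊔ (⨆ i : {i // i ∉ I'}, Q i.1) := by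
      have : (⨆ i ∈ I', Q i) ⊔ (⨆ i : {i // i ∉ I'}, Q i.1) = ⊤ := by
        rw [eq_top_iff, ← hQ.submodule_iSup_eq_top]
        apply iSup_le
        intro i
        by_cases hi : i ∈ I'
        · exact le_sup_of_le_left (le_iSup₂_of_le i hi le_rfl)
        · exact le_sup_of_le_right (le_iSup_of_le ⟨i, hi⟩ le_rfl)
      rw [this]
      trivial
    obtain ⟨a, ha, b, hb, rfl⟩ := Submodule.mem_sup.1 ht
    rw [← hker] at ha
    rw [map_add, LinearMap.mem_ker.1 ha, zero_add]
    exact ⟨b, hb, rfl⟩

end Groth.Agent.Lib27.ML.Descent
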