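import Mathlib
import Groth.Agent.Lib27.ML.Descent2

/-!
# Extension step for the descent of projectivity (continued)
-/

open TensorProduct
open scoped Classical

universe u

namespace Groth.Agent.Lib27.ML.Descent

variable {R S : Type u} [CommRing R] [CommRing S] [Algebra R S]
variable {M : Type u} [AddCommGroup M] [Module R M]

/-- Projective modules are Mittag-Leffler. -/
lemma ml_of_projective {T : Type u} [AddCommGroup T] [Module S T] [Module.Projective S T] :
    CAlg.IsMittagLeffler S T :=
  ((Groth.Agent.S0584.result S T).1 inferInstance).2.1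

theorem exists_extension [Module.FaithfullyFlat R S]
    {I : Type u} (Q : I → Submodule S (S ⊗[R] M)) (hQ : DirectSum.IsInternal Q)
    (hQc : ∀ i, ∃ t : Set (S ⊗[R] M), t.Countable ∧ Submodule.span S t = Q i)
    (hQp : ∀ I'' : Set I, Module.Projective S ↥(⨆ i ∈ I'', Q i))
    (N : Submodule R M) (I' : Set I) (hN : E (S := S) N = ⨆ i ∈ I', Q i) (m : M) :
    ∃ (C : Submodule R M) (I'' : Set I), Disjoint N C ∧ Module.Projective R C ∧ m ∈ N ⊔ C ∧
      E (S := S) (N ⊔ C) = ⨆ i ∈ I'', Q i := by
  have hind := hQ.submodule_iSupIndep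
  set π : M →ₗ[R] M ⧸ N := N.mkQ with hπ
  set p : (S ⊗[R] M) →ₗ[S] (S ⊗[R] (M ⧸ N)) := π.baseChange S with hp
  have hker : LinearMap.ker p = ⨆ i ∈ I', Q i := (ker_baseChange_mkQ N).trans hN
  have hpsurj : Function.Surjective p := baseChange_surjective π N.mkQ_surjective
  let Qb : {i // i ∉ I'} → Submodule S (S ⊗[R] (M ⧸ N)) := fun i => (Q i.1).map p
  have hQb : DirectSum.IsInternal Qb := isInternal_map_of_ker Q hQ p hpsurj I' hker
  have hQbc : ∀ i, ∃ t : Set (S ⊗[R] (M ⧸ N)), t.Countable ∧ Submodule.span S t = Qb i := by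
    intro i
    obtain ⟨t, ht, hspan⟩ := hQc i.1
    refine ⟨p '' t, ht.image p, ?_⟩
    rw [← Submodule.map_span, hspan]
  obtain ⟨Nb, J, hN₀, hNbc, hNbE⟩ := Groth.Agent.S6383.result R S (M ⧸ N) Qb hQb hQbc
    (Submodule.span R {π m}) ⟨{π m}, Set.countable_singleton _, rfl⟩
  set J' : Set I := Subtype.val '' J with hJ'
  have hJ'disj : Disjoint J' I' := by
    rw [Set.disjoint_left]
    rintro _ ⟨j, -, rfl⟩ hj
    exact j.2 hj
  set W' : Submodule S (S ⊗[R] M) := ⨆ i ∈ J', Q i with hW'
  have hNbE' : E (S := S) Nb = Submodule.map p W' := by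
    change Submodule.span S _ = _
    rw [hNbE, hW', hJ', iSup_image]
    simp only [Submodule.map_iSup]
    rfl
  -- `p` is injective on `W'`
  have hWdisj : Disjoint W' (LinearMap.ker p) := by
    rw [hker]
    exact hind.disjoint_biSup_biSup hJ'disj
  let g : W' →ₗ[S] (S ⊗[R] (M ⧸ N)) := p ∘ₗ W'.subtype
  have hginj : Function.Injective g := by
    rw [injective_iff_map_eq_zero]
    intro x hx
    have hx' : p (x : S ⊗[R] M) = 0 := hx
    have h1 : (x : S ⊗[R] M) ∈ W' ⊓ LinearMap.ker p := ⟨x.2, LinearMap.mem_ker.2 hx'⟩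
    rw [hWdisj.eq_bot, Submodule.mem_bot] at h1
    exact Subtype.ext h1
  have hgrange : LinearMap.range g = Submodule.map p W' := by
    rw [LinearMap.range_comp, Submodule.range_subtype]
  -- `S ⊗ Nb` is projective
  let ι := (Nb.subtype).baseChange S
  have hιinj : Function.Injective ι :=
    Module.Flat.lTensor_preserves_injective_linearMap (M := S) Nb.subtype Nb.subtype_injective
  have hιrange : LinearMap.range ι = LinearMap.range g := by
    rw [hgrange, ← hNbE', E_eq_range]
  let e : (S ⊗[R] Nb) ≃ₗ[S] W' :=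
    (LinearEquiv.ofInjective ι hιinj).trans
      ((LinearEquiv.ofEq _ _ hιrange).trans (LinearEquiv.ofInjective g hginj).symm)
  haveI hW'p : Module.Projective S W' := hQp J'
  haveI hSNb : Module.Projective S (S ⊗[R] Nb) := Module.Projective.of_equiv e.symm
  haveI hflat : Module.Flat R Nb := Module.Flat.of_flat_tensorProduct R Nb S
  have hml : CAlg.IsMittagLeffler R Nb :=
    Groth.Agent.S0586.result R S Nb (ml_of_projective)
  have hcg : CAlg.IsCountablyGenerated R Nb :=
    Groth.Agent.Lib.Helper12.Kap.CG.to_type hNbc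
  haveI hNbproj : Module.Projective R Nb :=
    projective_of_flat_of_mittagLeffler_of_countablyGenerated Nb hml hcg
  -- the section
  obtain ⟨σ, hσ⟩ := Module.projective_lifting_property π Nb.subtype N.mkQ_surjective
  have hσ' : ∀ y : Nb, π (σ y) = (y : M ⧸ N) := fun y => LinearMap.congr_fun hσ y
  have hσinj : Function.Injective σ := by
    intro y y' h
    apply Subtype.ext
    rw [← hσ' y, ← hσ' y', h]
  refine ⟨LinearMap.range σ, I' ∪ J', ?_, ?_, ?_, ?_⟩
  · rw [Submodule.disjoint_def]
    rintro x hxN ⟨y, rfl⟩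
    have h1 : π (σ y) = 0 := (Submodule.Quotient.mk_eq_zero N).2 hxN
    rw [hσ'] at h1
    have : y = 0 := Subtype.ext h1
    rw [this, map_zero]
  · exact Module.Projective.of_equiv (LinearEquiv.ofInjective σ hσinj)
  · have hm : π m ∈ Nb := hN₀ (Submodule.subset_span rfl)
    have h1 : m = (m - σ ⟨π m, hm⟩) + σ ⟨π m, hm⟩ := by abel
    rw [h1]
    apply Submodule.add_mem_sup
    · rw [← Submodule.Quotient.mk_eq_zero N]
      change π (m - σ ⟨π m, hm⟩) = 0
      rw [map_sub, hσ', sub_self]
    · exact ⟨_, rfl⟩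
  · rw [E_sup, iSup_union]
    have h1 : Submodule.map p (E (S := S) (LinearMap.range σ)) = Submodule.map p W' := by
      rw [hp, map_baseChange_E, ← LinearMap.range_comp, hσ, Submodule.range_subtype, hNbE']
    have h2 := congrArg (Submodule.comap p) h1
    rw [Submodule.comap_map_eq, Submodule.comap_map_eq, hker] at h2
    rw [hN, sup_comm, h2, sup_comm]

end Groth.Agent.Lib27.ML.Descent
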