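import Mathlib

/-!
# Associated primes of `N ⊗ M` for `N` a direct sum of finite modules over a local ring
-/

open TensorProduct

universe u

namespace Groth.Agent.Lib27.ML.AssHens

variable {R : Type u} [CommRing R]

/-- Every element of `N ⊗ M` comes from a finite partial sum of a family of submodules spanning `N`. -/
lemma exists_finset_mem_range {N M : Type u} [AddCommGroup N] [Module R N] [AddCommGroup M]
    [Module R M] {ι : Type u} (Q : ι → Submodule R N) (hQ : iSup Q = ⊤) (z : N ⊗[R] M) :
    ∃ F : Finset ι, z ∈ LinearMap.range ((⨆ i ∈ F, Q i).subtype.rTensor M) := by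
  classical
  have hmono : ∀ F F' : Finset ι, F ⊆ F' →
      LinearMap.range ((⨆ i ∈ F, Q i).subtype.rTensor M) ≤
        LinearMap.range ((⨆ i ∈ F', Q i).subtype.rTensor M) := by
    intro F F' hFF'
    have hle : (⨆ i ∈ F, Q i) ≤ ⨆ i ∈ F', Q i :=
      biSup_mono fun i hi => hFF' hi
    rw [← Submodule.subtype_comp_inclusion _ _ hle, LinearMap.rTensor_comp]
    exact LinearMap.range_comp_le_range _ _
  induction z using TensorProduct.induction_on with
  | zero => exact ⟨∅, zero_mem _⟩
  | tmul n m =>
    have hn : n ∈ ⨆ i, Q i := by rw [hQ]; trivial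
    obtain ⟨F, hF⟩ := Submodule.exists_finset_of_mem_iSup Q hn
    refine ⟨F, ⟨(⟨n, hF⟩ : ↥(⨆ i ∈ F, Q i)) ⊗ₜ[R] m, ?_⟩⟩
    rw [LinearMap.rTensor_tmul, Submodule.subtype_apply]
  | add x y hx hy =>
    obtain ⟨F₁, h₁⟩ := hx
    obtain ⟨F₂, h₂⟩ := hy
    exact ⟨F₁ ∪ F₂, add_mem (hmono _ _ Finset.subset_union_left h₁)
      (hmono _ _ Finset.subset_union_right h₂)⟩

lemma isCompl_biSup {N : Type u} [AddCommGroup N] [Module R N] {ι : Type u}
    (Q : ι → Submodule R N) (hind : iSupIndep Q) (hsup : iSup Q = ⊤) (I'' : Set ι) :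
    IsCompl (⨆ i ∈ I'', Q i) (⨆ i ∈ I''ᶜ, Q i) := by
  constructor
  · exact hind.disjoint_biSup_biSup disjoint_compl_right
  · rw [codisjoint_iff, ← iSup_union, Set.union_compl_self]
    simp only [Set.mem_univ, iSup_pos]
    exact hsup

/-- Nakayama: an endomorphism of a finite module over a local ring congruent to the identity modulo
the maximal ideal is bijective. -/
lemma bijective_of_sub_mem [IsLocalRing R] {L : Type u} [AddCommGroup L] [Module R L]
    [Module.Finite R L] (φ : L →ₗ[R] L)
    (h : ∀ y, y - φ y ∈ (IsLocalRing.maximalIdeal R • ⊤ : Submodule R L)) :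
    Function.Bijective φ := by
  have hsurj : Function.Surjective φ := by
    rw [← LinearMap.range_eq_top, eq_top_iff]
    apply Submodule.le_of_le_smul_of_le_jacobson_bot Module.Finite.fg_top
      (IsLocalRing.maximalIdeal_le_jacobson ⊥)
    intro y _
    have : y = φ y + (y - φ y) := by abel
    rw [this]
    exact Submodule.add_mem_sup ⟨y, rfl⟩ (h y)
  exact ⟨OrzechProperty.injective_of_surjective_endomorphism φ hsurj, hsurj⟩

end Groth.Agent.Lib27.ML.AssHens
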