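import Mathlib
import Groth.Prelude

/-!
# Finite modules over finite type algebras are countably generated over the base
-/

universe u

namespace Groth.Agent.Lib27.ML

lemma countablyGenerated_of_finite_of_finiteType {R S : Type u} [CommRing R] [CommRing S]
    [Algebra R S] [Algebra.FiniteType R S] (N : Type u) [AddCommGroup N] [Module S N] [Module R N]
    [IsScalarTower R S N] [Module.Finite S N] : CAlg.IsCountablyGenerated R N := by
  classical
  obtain ⟨n, f, hf⟩ := Algebra.FiniteType.iff_quotient_mvPolynomial''.1
    (inferInstance : Algebra.FiniteType R S)
  obtain ⟨t, ht⟩ := (Module.finite_def.1 (inferInstance : Module.Finite S N))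
  let T : Set N := Set.image2 (fun (d : Fin n →₀ ℕ) (x : N) => f (MvPolynomial.monomial d 1) • x)
    Set.univ (t : Set N)
  refine ⟨T, ?_, ?_⟩
  · exact Set.Countable.image2 Set.countable_univ t.countable_toSet _
  · rw [eq_top_iff]
    intro x _
    have hx : x ∈ Submodule.span S (t : Set N) := by rw [ht]; trivial
    refine Submodule.span_induction ?_ ?_ ?_ ?_ hx
    · intro y hy
      refine Submodule.subset_span ⟨0, Set.mem_univ _, y, hy, ?_⟩
      change f (MvPolynomial.monomial 0 1) • y = y
      rw [show (MvPolynomial.monomial (0 : Fin n →₀ ℕ) (1 : R)) = 1 from rfl, map_one, one_smul]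
    · exact zero_mem _
    · intro a b _ _ ha hb
      exact add_mem ha hb
    · intro s y _ hy
      obtain ⟨p, rfl⟩ := hf s
      -- `y` is in the `R`-span; show `f p • y` is
      induction p using MvPolynomial.induction_on' with
      | monomial d r =>
        have h1 : f (MvPolynomial.monomial d r) • y = r • (f (MvPolynomial.monomial d 1) • y) := by
          rw [← smul_assoc, ← map_smul, MvPolynomial.smul_monomial, smul_eq_mul, mul_one]
        rw [h1]
        apply Submodule.smul_mem
        refine Submodule.span_induction ?_ ?_ ?_ ?_ hy
        · rintro _ ⟨d', -, z, hz, rfl⟩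
          refine Submodule.subset_span ⟨d + d', Set.mem_univ _, z, hz, ?_⟩
          change f (MvPolynomial.monomial (d + d') 1) • z = _
          rw [← smul_assoc, smul_eq_mul, ← map_mul, MvPolynomial.monomial_mul, one_mul]
        · rw [smul_zero]
          exact zero_mem _
        · intro a b _ _ ha hb
          rw [smul_add]
          exact add_mem ha hb
        · intro r' a _ ha
          rw [smul_comm]
          exact Submodule.smul_mem _ _ ha
      | add p q hp hq =>
        rw [map_add, add_smul]
        exact add_mem hp hq

end Groth.Agent.Lib27.ML
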