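import Mathlib

/-!
# Polynomial lemmas for splitting modules over henselian local rings
-/

open Polynomial

namespace Groth.Agent.Lib27.ML.HensSplit

/-- Two monic polynomials over a local ring with coprime reductions are coprime. -/
lemma isCoprime_of_map_residue {R : Type*} [CommRing R] [IsLocalRing R] {g h : R[X]}
    (hg : g.Monic) (hh : h.Monic)
    (hc : IsCoprime (g.map (IsLocalRing.residue R)) (h.map (IsLocalRing.residue R))) :
    IsCoprime g h := by
  rw [← isUnit_resultant_iff_isCoprime hg]
  have h1 := (isUnit_resultant_iff_isCoprime (hg.map (IsLocalRing.residue R))).2 hc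
  rw [hg.natDegree_map, hh.natDegree_map, resultant_map_map] at h1
  exact isUnit_of_map_unit (IsLocalRing.residue R) _ h1

section

variable {R : Type*} [CommRing R] {M Q : Type*} [AddCommGroup M] [Module R M]
  [AddCommGroup Q] [Module R Q]

/-- `(c b)^(n+1) = c (b c)^n b`. -/
lemma pow_succ_comp (b : M →ₗ[R] Q) (c : Q →ₗ[R] M) (n : ℕ) :
    (c ∘ₗ b) ^ (n + 1) = c ∘ₗ ((b ∘ₗ c) ^ n) ∘ₗ b := by
  induction n with
  | zero =>
    rw [zero_add, pow_one, pow_zero]
    rfl
  | succ n ih =>
    rw [pow_succ, ih, pow_succ]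
    rfl

lemma aeval_X_mul_comp (b : M →ₗ[R] Q) (c : Q →ₗ[R] M) (q : R[X]) :
    aeval (c ∘ₗ b) (X * q) = c ∘ₗ (aeval (b ∘ₗ c) q) ∘ₗ b := by
  induction q using Polynomial.induction_on' with
  | add p q hp hq =>
    rw [mul_add, map_add, hp, hq, map_add, LinearMap.add_comp, LinearMap.comp_add]
  | monomial n r =>
    rw [← C_mul_X_pow_eq_monomial, mul_left_comm, ← pow_succ', map_mul, map_mul, aeval_C, aeval_C,
      map_pow, map_pow, aeval_X, aeval_X, pow_succ_comp]
    ext x
    simp [Module.algebraMap_end_apply]

lemma aeval_apply_of_fixed (α : Module.End R M) (x : M) (hx : α x = x) (q : R[X]) :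
    aeval α q x = q.eval 1 • x := by
  induction q using Polynomial.induction_on' with
  | add p q hp hq => rw [map_add, LinearMap.add_apply, hp, hq, eval_add, add_smul]
  | monomial n r =>
    rw [← C_mul_X_pow_eq_monomial, map_mul, aeval_C, map_pow, aeval_X]
    have : ∀ n : ℕ, (α ^ n) x = x := by
      intro n
      induction n with
      | zero => rfl
      | succ n ih => rw [pow_succ, Module.End.mul_apply, hx, ih]
    simp [Module.algebraMap_end_apply, this]

end

end Groth.Agent.Lib27.ML.HensSplit
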