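import Mathlib
import Groth.Agent.Lib27.ML.HensSplit1
import Groth.Agent.S6361
import Groth.Agent.S0497

/-!
# Splitting off a finitely generated summand containing a given element
-/

open Polynomial

universe u

namespace Groth.Agent.Lib27.ML.HensSplit

variable {R : Type u} [CommRing R]

/-- Abstract splitting: coprime polynomials whose product kills `α` split the module. -/
lemma isCompl_range_of_isCoprime {M : Type*} [AddCommGroup M] [Module R M] (α : Module.End R M)
    {g h : R[X]} (hc : IsCoprime g h) (hgh : aeval α (g * h) = 0) :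
    IsCompl (LinearMap.range (aeval α h)) (LinearMap.range (aeval α g)) := by
  obtain ⟨U, V, hUV⟩ := hc
  have hone : ∀ y : M, aeval α U (aeval α g y) + aeval α V (aeval α h y) = y := by
    intro y
    have := congrArg (fun q => aeval α q y) hUV
    simpa [map_add, map_mul] using this
  have hGH : ∀ y : M, aeval α g (aeval α h y) = 0 := by
    intro y
    have := congrArg (fun f : Module.End R M => f y) hgh
    simpa [map_mul] using this
  have hHG : ∀ y : M, aeval α h (aeval α g y) = 0 := by
    intro y
    have h1 : aeval α (h * g) = 0 := by rw [mul_comm, hgh]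
    have := congrArg (fun f : Module.End R M => f y) h1
    simpa [map_mul] using this
  constructor
  · rw [Submodule.disjoint_def]
    rintro y ⟨z, rfl⟩ ⟨z', hz'⟩
    have h1 := hone (aeval α h z)
    rw [hGH, map_zero, zero_add, ← hz', hHG, map_zero] at h1
    rw [← hz', ← h1]
  · rw [codisjoint_iff, eq_top_iff]
    intro y _
    rw [← hone y, add_comm]
    apply Submodule.add_mem_sup
    · refine ⟨aeval α V y, ?_⟩
      rw [← Module.End.mul_apply, ← Module.End.mul_apply, ← map_mul, ← map_mul, mul_comm]
    · refine ⟨aeval α U y, ?_⟩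
      rw [← Module.End.mul_apply, ← Module.End.mul_apply, ← map_mul, ← map_mul, mul_comm]

lemma aeval_aeval_of_mem_range {M : Type*} [AddCommGroup M] [Module R M] (α : Module.End R M)
    {g h U V : R[X]} (hUV : U * g + V * h = 1) (hgh : aeval α (g * h) = 0) (z : M) :
    aeval α h (aeval α V (aeval α h z)) = aeval α h z := by
  have h2 := congrArg (fun q => aeval α q (aeval α h z)) hUV
  simp only [map_add, map_mul, LinearMap.add_apply, Module.End.mul_apply, map_one,
    Module.End.one_apply] at h2
  have h3 : aeval α g (aeval α h z) = 0 := by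
    have := congrArg (fun f : Module.End R M => f z) hgh
    simpa [map_mul] using this
  rw [h3, map_zero, zero_add] at h2
  have h4 : aeval α h (aeval α V (aeval α h z)) = aeval α V (aeval α h (aeval α h z)) := by
    rw [← Module.End.mul_apply, ← Module.End.mul_apply (aeval α V), ← map_mul, ← map_mul, mul_comm]
  rw [h4, h2]

/-- Over a henselian local ring, any element of a countably generated Mittag-Leffler module lies
in a finitely generated direct summand. -/
theorem exists_split [HenselianLocalRing R] (M : Type u) [AddCommGroup M] [Module R M]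
    (hML : CAlg.IsMittagLeffler R M) (hc : CAlg.IsCountablyGenerated R M) (x : M) :
    ∃ N K : Submodule R M, IsCompl N K ∧ x ∈ N ∧ N.FG := by
  by_cases hx : x = 0
  · exact ⟨⊥, ⊤, isCompl_bot_top, hx ▸ zero_mem _, Submodule.fg_bot⟩
  obtain ⟨Q, _, _, _, b, c, hbc⟩ :=
    Groth.Agent.S6361.result R M hML hc (LinearMap.toSpanSingleton R M x)
  have hx1 : c (b x) = x := by
    have := LinearMap.congr_fun hbc 1
    simpa using this
  set α : Module.End R M := c ∘ₗ b with hα
  set a : Module.End R Q := b ∘ₗ c with ha
  obtain ⟨p, hpm, hpa⟩ := LinearMap.exists_monic_and_aeval_eq_zero R a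
  have hF : aeval α (X * p) = 0 := by
    rw [hα, aeval_X_mul_comp, ← ha, hpa]
    simp
  have hp1 : ¬ IsUnit (p.eval 1) := by
    intro hu
    have h1 := aeval_apply_of_fixed α x hx1 (X * p)
    rw [hF, LinearMap.zero_apply, eval_mul, eval_X, one_mul] at h1
    exact hx ((hu.smul_eq_zero).1 h1.symm)
  set k := IsLocalRing.ResidueField R with hk
  set pb := p.map (IsLocalRing.residue R) with hpb
  have hpb0 : pb ≠ 0 := (hpm.map _).ne_zero
  obtain ⟨h₀, hfac, hndvd⟩ := exists_eq_pow_rootMultiplicity_mul_and_not_dvd pb hpb0 1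
  set e := pb.rootMultiplicity 1 with he
  have hcop1 : IsCoprime (X - C (1 : k)) h₀ :=
    (irreducible_X_sub_C 1).coprime_iff_not_dvd.2 hndvd
  have hcop : IsCoprime ((X - C (1 : k)) ^ e) h₀ := hcop1.pow_left
  obtain ⟨g, h₁, hpgh, hgm, hgmap, hhmap⟩ :=
    Groth.Agent.S0497.result R p _ h₀ ((monic_X_sub_C 1).pow e) hcop hfac
  have hh₁m : h₁.Monic := hgm.of_mul_monic_left (hpgh ▸ hpm)
  have hcopX : IsCoprime (X - C (1 : k)) X := ⟨-1, 1, by simp⟩
  have hc' : IsCoprime (g.map (IsLocalRing.residue R)) ((X * h₁).map (IsLocalRing.residue R)) := by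
    rw [hgmap, Polynomial.map_mul, map_X, hhmap]
    exact (hcopX.mul_right hcop1).pow_left
  have hcgh : IsCoprime g (X * h₁) := isCoprime_of_map_residue hgm (monic_X.mul hh₁m) hc'
  have hkill : aeval α (g * (X * h₁)) = 0 := by
    rw [mul_left_comm, ← hpgh, hF]
  have hcompl := isCompl_range_of_isCoprime α hcgh hkill
  refine ⟨LinearMap.range (aeval α (X * h₁)), LinearMap.range (aeval α g), hcompl, ?_, ?_⟩
  · have hunit : IsUnit ((X * h₁).eval 1) := by
      rw [eval_mul, eval_X, one_mul]
      apply isUnit_of_map_unit (IsLocalRing.residue R)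
      rw [← eval_one_map, hhmap, isUnit_iff_ne_zero]
      intro h0
      exact hndvd (dvd_iff_isRoot.2 h0)
    obtain ⟨u, hu⟩ := hunit
    refine ⟨(↑u⁻¹ : R) • x, ?_⟩
    rw [map_smul, aeval_apply_of_fixed α x hx1, ← hu, smul_smul, Units.inv_mul, one_smul]
  · obtain ⟨U, V, hUV⟩ := hcgh
    set H := aeval α (X * h₁) with hH
    let c' : Q →ₗ[R] M := c ∘ₗ aeval a h₁
    have hHc' : H = c' ∘ₗ b := by
      rw [hH, hα, aeval_X_mul_comp]
      rfl
    have hrange : LinearMap.range H = LinearMap.range (H ∘ₗ (aeval α V) ∘ₗ c') := by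
      apply le_antisymm
      · rintro _ ⟨z, rfl⟩
        refine ⟨b z, ?_⟩
        have h1 : c' (b z) = H z := by
          rw [hHc']
          rfl
        simp only [LinearMap.comp_apply]
        rw [h1]
        exact aeval_aeval_of_mem_range α hUV hkill z
      · rintro _ ⟨z, rfl⟩
        exact ⟨_, rfl⟩
    rw [hrange, LinearMap.range_eq_map]
    exact Module.Finite.fg_top.map _

end Groth.Agent.Lib27.ML.HensSplit
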