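import Mathlib
import Groth.Agent.Lib27.ML.HensSplit2
import Groth.Agent.S6338
import Groth.Agent.S0587
import Groth.Agent.S0588

/-!
# Countably generated Mittag-Leffler modules over henselian local rings
-/

universe u

namespace Groth.Agent.Lib27.ML.HensSplit

variable {R : Type u} [CommRing R]

lemma univInj_of_retract {M₁ M₂ : Type u} [AddCommGroup M₁] [Module R M₁] [AddCommGroup M₂]
    [Module R M₂] (f : M₁ →ₗ[R] M₂) (r : M₂ →ₗ[R] M₁) (h : r ∘ₗ f = LinearMap.id) :
    CAlgX.UniversallyInjective R f := by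
  intro Q _ _
  apply Function.LeftInverse.injective (g := r.rTensor Q)
  intro y
  rw [← LinearMap.comp_apply, ← LinearMap.rTensor_comp, h, LinearMap.rTensor_id, LinearMap.id_apply]

lemma ml_of_retract {M₁ M₂ : Type u} [AddCommGroup M₁] [Module R M₁] [AddCommGroup M₂]
    [Module R M₂] (f : M₁ →ₗ[R] M₂) (r : M₂ →ₗ[R] M₁) (h : r ∘ₗ f = LinearMap.id)
    (h₂ : CAlg.IsMittagLeffler R M₂) : CAlg.IsMittagLeffler R M₁ :=
  Groth.Agent.S6338.result R f (univInj_of_retract f r h) h₂

lemma ml_of_equiv {M₁ M₂ : Type u} [AddCommGroup M₁] [Module R M₁] [AddCommGroup M₂]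
    [Module R M₂] (e : M₁ ≃ₗ[R] M₂) (h₂ : CAlg.IsMittagLeffler R M₂) :
    CAlg.IsMittagLeffler R M₁ :=
  ml_of_retract e.toLinearMap e.symm.toLinearMap (by ext x; simp) h₂

lemma cg_of_surjective {M₁ M₂ : Type u} [AddCommGroup M₁] [Module R M₁] [AddCommGroup M₂]
    [Module R M₂] (f : M₁ →ₗ[R] M₂) (hf : Function.Surjective f)
    (h : CAlg.IsCountablyGenerated R M₁) : CAlg.IsCountablyGenerated R M₂ := by
  obtain ⟨s, hs, hspan⟩ := h
  refine ⟨f '' s, hs.image f, ?_⟩
  rw [← Submodule.map_span, hspan, Submodule.map_top, LinearMap.range_eq_top.2 hf]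

lemma fp_of_finite_of_ml (M : Type u) [AddCommGroup M] [Module R M] [Module.Finite R M]
    (h : CAlg.IsMittagLeffler R M) : Module.FinitePresentation R M := by
  rw [Groth.Agent.S0588.result R M]
  intro ι Q _ _
  exact ⟨h ι Q, (Groth.Agent.S0587.result R M).1 inferInstance ι Q⟩

/-- Properties of a direct summand. -/
lemma summand_props (K : Type u) [AddCommGroup K] [Module R K]
    (hML : CAlg.IsMittagLeffler R K) (hcg : CAlg.IsCountablyGenerated R K)
    (P P' : Submodule R K) (h : IsCompl P P') :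
    CAlg.IsMittagLeffler R P ∧ CAlg.IsCountablyGenerated R P :=
  ⟨ml_of_retract P.subtype (Submodule.projectionOnto P P' h)
      (Submodule.projectionOnto_comp_subtype h) hML,
    cg_of_surjective (Submodule.projectionOnto P P' h) (Submodule.projectionOnto_surjective h) hcg⟩

/-- The step: split off a finitely presented summand of `K` containing `k`. -/
lemma exists_step [HenselianLocalRing R] {M : Type u} [AddCommGroup M] [Module R M]
    (K : Submodule R M) (hML : CAlg.IsMittagLeffler R K) (hcg : CAlg.IsCountablyGenerated R K)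
    (k : M) (hk : k ∈ K) :
    ∃ N K' : Submodule R M, N ⊔ K' = K ∧ Disjoint N K' ∧ k ∈ N ∧
      Module.FinitePresentation R N ∧ CAlg.IsMittagLeffler R K' ∧
      CAlg.IsCountablyGenerated R K' := by
  obtain ⟨N₀, K₀, hcompl, hkN, hfg⟩ := exists_split K hML hcg ⟨k, hk⟩
  have hinj : Function.Injective K.subtype := K.subtype_injective
  obtain ⟨hN₀ml, -⟩ := summand_props K hML hcg N₀ K₀ hcompl
  obtain ⟨hK₀ml, hK₀cg⟩ := summand_props K hML hcg K₀ N₀ hcompl.symm
  let eN := Submodule.equivMapOfInjective K.subtype hinj N₀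
  let eK := Submodule.equivMapOfInjective K.subtype hinj K₀
  refine ⟨N₀.map K.subtype, K₀.map K.subtype, ?_, ?_, ⟨⟨k, hk⟩, hkN, rfl⟩, ?_, ?_, ?_⟩
  · rw [← Submodule.map_sup, hcompl.sup_eq_top, Submodule.map_subtype_top]
  · rw [disjoint_iff, ← Submodule.map_inf _ hinj, hcompl.inf_eq_bot, Submodule.map_bot]
  · haveI : Module.Finite R N₀ := Module.Finite.iff_fg.2 hfg
    haveI : Module.FinitePresentation R N₀ := fp_of_finite_of_ml N₀ hN₀ml
    exact Module.FinitePresentation.of_equiv eN
  · exact ml_of_equiv eK.symm hK₀ml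
  · exact cg_of_surjective eK.toLinearMap eK.surjective hK₀cg

end Groth.Agent.Lib27.ML.HensSplit
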