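import Mathlib
import Groth.Agent.Lib27.ML.HensSplit3

/-!
# Countably generated Mittag-Leffler modules over henselian local rings: the decomposition
-/

universe u

namespace Groth.Agent.Lib27.ML.HensSplit

variable {R : Type u} [CommRing R]

/-- The state of the recursion. -/
structure St (R : Type u) [CommRing R] (M : Type u) [AddCommGroup M] [Module R M] where
  S : Submodule R M
  K : Submodule R M
  compl : IsCompl S K
  ml : CAlg.IsMittagLeffler R K
  cg : CAlg.IsCountablyGenerated R K

lemma exists_next [HenselianLocalRing R] {M : Type u} [AddCommGroup M] [Module R M]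
    (st : St R M) (x : M) :
    ∃ (N : Submodule R M) (st' : St R M), st'.S = st.S ⊔ N ∧ N ⊔ st'.K = st.K ∧ x ∈ st'.S ∧
      Module.FinitePresentation R N ∧ Disjoint N st'.K := by
  have hx : x ∈ st.S ⊔ st.K := by rw [st.compl.sup_eq_top]; trivial
  obtain ⟨s, hs, k, hk, rfl⟩ := Submodule.mem_sup.1 hx
  obtain ⟨N, K', hsup, hdisj, hkN, hfp, hml, hcg⟩ := exists_step st.K st.ml st.cg k hk
  refine ⟨N, ⟨st.S ⊔ N, K', ?_, hml, hcg⟩, rfl, hsup, ?_, hfp, hdisj⟩
  · apply Disjoint.isCompl_sup_left_of_isCompl_sup_right hdisj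
    rw [hsup]
    exact st.compl
  · exact Submodule.add_mem_sup hs hkN

theorem exists_decomp [HenselianLocalRing R] (M : Type u) [AddCommGroup M] [Module R M]
    (hc : CAlg.IsCountablyGenerated R M) (hML : CAlg.IsMittagLeffler R M) :
    ∃ N : ℕ → Submodule R M, iSupIndep N ∧ iSup N = ⊤ ∧
      ∀ i, Module.FinitePresentation R (N i) := by
  classical
  -- enumerate generators
  obtain ⟨s, hs, hspan⟩ := hc
  obtain ⟨x, hx⟩ := (hs.insert 0).exists_eq_range (Set.insert_nonempty 0 s)
  have hxspan : Submodule.span R (Set.range x) = ⊤ := by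
    rw [← hx, eq_top_iff, ← hspan]
    exact Submodule.span_mono (Set.subset_insert _ _)
  choose stepN stepSt hstep using fun (st : St R M) (x : M) => exists_next st x
  let st0 : St R M :=
    { S := ⊥
      K := ⊤
      compl := isCompl_bot_top
      ml := ml_of_equiv (Submodule.topEquiv : (⊤ : Submodule R M) ≃ₗ[R] M) hML
      cg := cg_of_surjective (Submodule.topEquiv : (⊤ : Submodule R M) ≃ₗ[R] M).symm.toLinearMap
        (Submodule.topEquiv : (⊤ : Submodule R M) ≃ₗ[R] M).symm.surjective ⟨s, hs, hspan⟩ }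
  let st : ℕ → St R M := fun n => Nat.rec st0 (fun n st => stepSt st (x n)) n
  let N : ℕ → Submodule R M := fun n => stepN (st n) (x n)
  have hst_succ : ∀ n, st (n + 1) = stepSt (st n) (x n) := fun n => rfl
  have hS : ∀ n, (st (n + 1)).S = (st n).S ⊔ N n := fun n => (hstep (st n) (x n)).1
  have hK : ∀ n, N n ⊔ (st (n + 1)).K = (st n).K := fun n => (hstep (st n) (x n)).2.1
  have hxS : ∀ n, x n ∈ (st (n + 1)).S := fun n => (hstep (st n) (x n)).2.2.1
  have hfp : ∀ n, Module.FinitePresentation R (N n) := fun n => (hstep (st n) (x n)).2.2.2.1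
  have hSmono : Monotone fun n => (st n).S :=
    monotone_nat_of_le_succ fun n => by rw [hS]; exact le_sup_left
  have hKanti : Antitone fun n => (st n).K :=
    antitone_nat_of_succ_le fun n => by rw [← hK n]; exact le_sup_right
  have hNS : ∀ n, N n ≤ (st (n + 1)).S := fun n => by rw [hS]; exact le_sup_right
  have hNK : ∀ n, N n ≤ (st n).K := fun n => by rw [← hK n]; exact le_sup_left
  have hSle : ∀ n, (st n).S ≤ iSup N := by
    intro n
    induction n with
    | zero => exact bot_le
    | succ n ih =>
      rw [hS]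
      exact sup_le ih (le_iSup N n)
  refine ⟨N, ?_, ?_, hfp⟩
  · rw [iSupIndep_def]
    intro n
    have hle : (⨆ (j) (_ : j ≠ n), N j) ≤ (st n).S ⊔ (st (n + 1)).K := by
      refine iSup₂_le fun j hj => ?_
      rcases lt_or_gt_of_ne hj with h | h
      · exact le_sup_of_le_left ((hNS j).trans (hSmono h))
      · exact le_sup_of_le_right ((hNK j).trans (hKanti h))
    refine Disjoint.mono_right hle ?_
    apply Disjoint.disjoint_sup_right_of_disjoint_sup_left
    · exact ((st n).compl.disjoint.mono_right (hNK n)).symm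
    · rw [sup_comm, ← hS]
      exact (st (n + 1)).compl.disjoint
  · rw [eq_top_iff, ← hxspan, Submodule.span_le]
    rintro _ ⟨n, rfl⟩
    exact hSle (n + 1) (hxS n)

end Groth.Agent.Lib27.ML.HensSplit
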